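import Mathlib

/-! Smooth algebras over a localization descend to the base ring. -/

set_option autoImplicit false
universe u

namespace SpreadLocLib

open Algebra

/-- A smooth algebra over a localization of `R` is a localization of a smooth `R`-algebra. -/
theorem exists_smooth_model (R O A : Type u) [CommRing R] [CommRing O] [CommRing A] [Algebra R O]
    (M : Submonoid R) [IsLocalization M O] [Algebra O A] [Algebra R A] [IsScalarTower R O A]
    [Algebra.Smooth O A] :
    ∃ (B : Type u) (_ : CommRing B) (_ : Algebra R B) (_ : Algebra B A),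
      IsScalarTower R B A ∧ Algebra.Smooth R B ∧ IsLocalization (Algebra.algebraMapSubmonoid B M) A := by
  classical
  obtain ⟨n, g, hg, hker⟩ := Algebra.Smooth.finitePresentation (R := O) (A := A)
  obtain ⟨s, hs⟩ := hker
  let P := MvPolynomial (Fin n) R
  let PO := MvPolynomial (Fin n) O
  letI : Algebra P PO := MvPolynomial.algebraMvPolynomial
  let M' : Submonoid P := M.map MvPolynomial.C
  haveI : IsLocalization M' PO := MvPolynomial.isLocalization M O
  choose t ht using fun z : s => IsLocalization.surj M' (z : PO)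
  let I : Ideal P := Ideal.span (Set.range fun z => (t z).1)
  let B₀ := P ⧸ I
  have hI : RingHom.ker g.toRingHom ≤ I.map (algebraMap P PO) := by
    refine le_trans (le_of_eq (show RingHom.ker g.toRingHom = Ideal.span (s : Set PO) from hs.symm)) ?_
    refine Ideal.span_le.mpr fun z hz => ?_
    obtain ⟨⟨v, hv⟩, hv'⟩ := IsLocalization.map_units PO (t ⟨z, hz⟩).2
    have h : z = algebraMap P PO (t ⟨z, hz⟩).1 * ↑(IsLocalization.map_units PO (t ⟨z, hz⟩).2).unit⁻¹ := by
      rw [Units.eq_mul_inv_iff_mul_eq, IsUnit.unit_spec]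
      exact ht ⟨z, hz⟩
    rw [h]
    exact Ideal.mul_mem_right _ _ (Ideal.mem_map_of_mem _ (Ideal.subset_span ⟨_, rfl⟩))
  have hI0 : ∀ x ∈ I, g (algebraMap P PO x) = 0 := by
    intro x hx
    refine Submodule.span_induction ?_ (by simp) (fun a b _ _ ha hb => by simp [ha, hb])
      (fun a b _ hb => by simp [smul_eq_mul, hb]) hx
    rintro _ ⟨z, rfl⟩
    have : g (z : PO) = 0 := by
      have : (z : PO) ∈ RingHom.ker g.toRingHom := hs ▸ Ideal.subset_span z.2
      exact this
    show g (algebraMap P PO (t z).1) = 0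
    rw [← ht z, map_mul, this, zero_mul]
  let e₀ : B₀ →+* A := Ideal.Quotient.lift I (g.toRingHom.comp (algebraMap P PO)) hI0
  letI : Algebra B₀ A := e₀.toAlgebra
  haveI tow₀ : IsScalarTower R B₀ A := IsScalarTower.of_algebraMap_eq (R := R) (S := B₀) (A := A) fun r => by
    show _ = g (algebraMap P PO (MvPolynomial.C r))
    rw [IsScalarTower.algebraMap_apply R O A, show algebraMap P PO (MvPolynomial.C r) =
      MvPolynomial.C (algebraMap R O r) from MvPolynomial.map_C _ r]
    exact (g.commutes (algebraMap R O r)).symm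
  haveI loc₀ : IsLocalization (Algebra.algebraMapSubmonoid B₀ M) A := by
    have := IsLocalization.of_surjective M' PO (Ideal.Quotient.mk I) Ideal.Quotient.mk_surjective
      g.toRingHom hg rfl (hI.trans (Ideal.map_mono (le_of_eq Ideal.mk_ker.symm)))
    have e : Submonoid.map (Ideal.Quotient.mk I) M' = Algebra.algebraMapSubmonoid B₀ M := by
      ext x
      constructor
      · rintro ⟨_, ⟨r, hr, rfl⟩, rfl⟩; exact ⟨r, hr, rfl⟩
      · rintro ⟨r, hr, rfl⟩; exact ⟨_, ⟨r, hr, rfl⟩, rfl⟩
    rwa [e] at this
  haveI : Algebra.FinitePresentation R B₀ :=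
    Algebra.FinitePresentation.quotient (Submodule.fg_span (Set.finite_range _))
  haveI : Algebra.FormallyEtale R O := Algebra.FormallyEtale.of_isLocalization M
  haveI : Algebra.FormallySmooth R A := Algebra.FormallySmooth.comp R O A
  let N := Algebra.algebraMapSubmonoid B₀ M
  have hsm : ∀ q : PrimeSpectrum A, PrimeSpectrum.comap (algebraMap B₀ A) q ∈ Algebra.smoothLocus R B₀ := fun q => by
    let p := PrimeSpectrum.comap (algebraMap B₀ A) q
    have : IsLocalization.AtPrime (Localization.AtPrime q.asIdeal) p.asIdeal :=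
      IsLocalization.isLocalization_isLocalization_atPrime_isLocalization N _ q.asIdeal
    haveI : Algebra.FormallyEtale A (Localization.AtPrime q.asIdeal) :=
      Algebra.FormallyEtale.of_isLocalization q.asIdeal.primeCompl
    haveI : Algebra.FormallySmooth R (Localization.AtPrime q.asIdeal) := Algebra.FormallySmooth.comp R A _
    exact Algebra.FormallySmooth.of_equiv ((IsLocalization.algEquiv p.asIdeal.primeCompl
      (Localization.AtPrime q.asIdeal) (Localization.AtPrime p.asIdeal)).restrictScalars R)
  obtain ⟨J, hJ⟩ := (PrimeSpectrum.isClosed_iff_zeroLocus_ideal _).mp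
    (Algebra.isOpen_smoothLocus (R := R) (A := B₀)).isClosed_compl
  have htop : J.map (algebraMap B₀ A) = ⊤ := by
    by_contra hne
    obtain ⟨q, hq, hle⟩ := Ideal.exists_le_maximal _ hne
    have h1 := hsm ⟨q, hq.isPrime⟩
    have h2 : PrimeSpectrum.comap (algebraMap B₀ A) ⟨q, hq.isPrime⟩ ∈ PrimeSpectrum.zeroLocus (J : Set B₀) :=
      fun x hx => hle (Ideal.mem_map_of_mem _ hx)
    rw [← hJ] at h2
    exact h2 h1
  obtain ⟨m, hmN, hmJ⟩ := Set.not_disjoint_iff.mp
    (fun h => (IsLocalization.map_algebraMap_ne_top_iff_disjoint N A J).mpr h htop)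
  let B := Localization.Away m
  haveI : Algebra.Smooth R B := Algebra.basicOpen_subset_smoothLocus_iff_smooth.mp (fun x hx => by
    by_contra h
    have : x ∈ PrimeSpectrum.zeroLocus (J : Set B₀) := by rw [← hJ]; exact h
    exact hx (this hmJ))
  let e : B →+* A := IsLocalization.Away.lift m (g := algebraMap B₀ A) (IsLocalization.map_units A ⟨m, hmN⟩)
  letI : Algebra B A := e.toAlgebra
  haveI : IsScalarTower B₀ B A := IsScalarTower.of_algebraMap_eq fun x =>
    (IsLocalization.Away.lift_eq m _ x).symm
  refine ⟨B, inferInstance, inferInstance, inferInstance, ?_, inferInstance, ?_⟩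
  · exact IsScalarTower.of_algebraMap_eq fun r => by
      rw [IsScalarTower.algebraMap_apply R B₀ B, ← IsScalarTower.algebraMap_apply B₀ B A,
        ← IsScalarTower.algebraMap_apply R B₀ A]
  · have := IsLocalization.isLocalization_of_submonoid_le B A (Submonoid.powers m) N
      (Submonoid.powers_le.mpr hmN)
    have e : Submonoid.map (algebraMap B₀ B) N = Algebra.algebraMapSubmonoid B M := by
      ext x
      constructor
      · rintro ⟨_, ⟨r, hr, rfl⟩, rfl⟩; exact ⟨r, hr, IsScalarTower.algebraMap_apply R B₀ B r⟩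
      · rintro ⟨r, hr, rfl⟩; exact ⟨_, ⟨r, hr, rfl⟩, (IsScalarTower.algebraMap_apply R B₀ B r).symm⟩
    rwa [e] at this

end SpreadLocLib
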