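import Mathlib

/-! Spreading out morphisms from the spectrum of a localization. -/

set_option autoImplicit false
set_option backward.isDefEq.respectTransparency false
set_option backward.isDefEq.respectTransparency.types false
universe u

open CategoryTheory CategoryTheory.Limits AlgebraicGeometry TopologicalSpace Opposite

namespace SpreadLocLib

variable {B : Type u} [CommRing B] (M : Submonoid B) (A : Type u) [CommRing A] [Algebra B A]
  [IsLocalization M A]

/-- The projection from the spectrum of the localization. -/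
noncomputable abbrev proj : Spec (CommRingCat.of A) ⟶ Spec (CommRingCat.of B) :=
  Spec.map (CommRingCat.ofHom (algebraMap B A))

/-- The basic open of a finite set of denominators. -/
noncomputable def nbhd (k : Finset M) : (Spec (CommRingCat.of B)).Opens :=
  PrimeSpectrum.basicOpen (∏ m ∈ k, (m : B))

theorem nbhd_mono {k l : Finset M} (h : k ⊆ l) : nbhd M l ≤ nbhd M k := by
  obtain ⟨c, hc⟩ := Finset.prod_dvd_prod_of_subset k l (fun m : M => (m : B)) h
  rw [nbhd, nbhd, hc]
  exact PrimeSpectrum.basicOpen_mul_le_left _ _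

theorem isAffineOpen_nbhd (k : Finset M) : IsAffineOpen (nbhd M k) := by
  rw [nbhd, ← basicOpen_eq_of_affine]
  exact (isAffineOpen_top (Spec (CommRingCat.of B))).basicOpen _

theorem proj_mem_nbhd (k : Finset M) (x : Spec (CommRingCat.of A)) : proj A x ∈ nbhd M k := by
  show (∏ m ∈ k, (m : B)) ∉ Ideal.comap (algebraMap B A) x.asIdeal
  exact fun h => x.2.ne_top (Ideal.eq_top_of_isUnit_mem _ h
    (IsLocalization.map_units A ⟨_, prod_mem fun m (_ : m ∈ k) => m.2⟩))

theorem range_proj_subset (k : Finset M) :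
    Set.range (proj (B := B) A).base ⊆ Set.range (nbhd M k).ι.base := by
  rintro _ ⟨x, rfl⟩
  rw [Scheme.Opens.range_ι]
  exact proj_mem_nbhd M A k x

include M in
theorem mono_proj : Mono (proj (B := B) A) := by
  haveI : Epi (CommRingCat.ofHom (algebraMap B A)) := ⟨fun f g h =>
    CommRingCat.hom_ext (IsLocalization.ringHom_ext M (congrArg CommRingCat.Hom.hom h))⟩
  exact inferInstanceAs (Mono (Scheme.Spec.map (CommRingCat.ofHom (algebraMap B A)).op))

/-- The diagram of neighbourhoods. -/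
noncomputable abbrev diag : (Finset M)ᵒᵖ ⥤ Scheme.{u} where
  obj k := (nbhd M k.unop : Scheme.{u})
  map f := (Spec (CommRingCat.of B)).homOfLE (nbhd_mono M (leOfHom f.unop))
  map_id k := Scheme.homOfLE_rfl _ _
  map_comp f g := (Scheme.homOfLE_homOfLE _ _ _).symm

theorem diag_map_ι {k l : (Finset M)ᵒᵖ} (f : k ⟶ l) :
    (diag M).map f ≫ (nbhd M l.unop).ι = (nbhd M k.unop).ι :=
  Scheme.homOfLE_ι (Spec (CommRingCat.of B)) (nbhd_mono M (leOfHom f.unop))

/-- The spectrum of the localization as a cone. -/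
noncomputable abbrev cone : Cone (diag M) where
  pt := Spec (CommRingCat.of A)
  π :=
    { app := fun k => IsOpenImmersion.lift (nbhd M k.unop).ι (proj A) (range_proj_subset M A k.unop)
      naturality := fun k l f => by
        refine (Category.id_comp _).trans ((cancel_mono (nbhd M l.unop).ι).1 ?_)
        exact (IsOpenImmersion.lift_fac _ _ _).trans (((Category.assoc _ _ _).trans
          ((congrArg _ (diag_map_ι M f)).trans (IsOpenImmersion.lift_fac _ _ _))).symm) }

theorem cone_app_ι (k : (Finset M)ᵒᵖ) : (cone M A).π.app k ≫ (nbhd M k.unop).ι = proj A :=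
  IsOpenImmersion.lift_fac _ _ _

/-- The spectrum of the localization is the limit of the neighbourhoods. -/
noncomputable def isLimit : IsLimit (cone M A) :=
  have key : ∀ s : Cone (diag M), ∃ q : s.pt ⟶ Spec (CommRingCat.of A),
      q ≫ proj A = s.π.app (op ∅) ≫ (nbhd M ∅).ι := fun s => by
    let q₀ := s.π.app (op ∅) ≫ (nbhd M ∅).ι
    let ψ : B →+* Γ(s.pt, ⊤) := ((Scheme.ΓSpecIso (CommRingCat.of B)).inv ≫ q₀.appTop).hom
    have hψ : ∀ m : M, IsUnit (ψ m) := fun m => by
      refine RingedSpace.isUnit_of_isUnit_germ s.pt.toRingedSpace ⊤ _ fun x hx => ?_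
      rw [← Scheme.mem_basicOpen_top]
      refine (SetLike.ext_iff.mp (Scheme.preimage_basicOpen_top q₀
        ((Scheme.ΓSpecIso (CommRingCat.of B)).inv.hom (m : B))) x).mp ?_
      show q₀ x ∈ (Spec (CommRingCat.of B)).basicOpen _
      rw [basicOpen_eq_of_affine]
      show q₀ x ∈ PrimeSpectrum.basicOpen (m : B)
      have h1 : s.π.app (op ∅) = s.π.app (op {m}) ≫ (diag M).map (homOfLE (Finset.empty_subset {m})).op :=
        (s.w _).symm
      have h2 : q₀ = s.π.app (op {m}) ≫ (nbhd M {m}).ι := by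
        show s.π.app (op ∅) ≫ (nbhd M ∅).ι = _
        rw [h1, Category.assoc]
        exact congrArg _ (diag_map_ι M _)
      rw [h2]
      have h3 := (s.π.app (op {m}) x).2
      simpa [nbhd] using h3
    refine ⟨s.pt.toSpecΓ ≫ Spec.map (CommRingCat.ofHom (IsLocalization.lift hψ)), ?_⟩
    rw [Category.assoc, ← Spec.map_comp, ← CommRingCat.ofHom_comp, IsLocalization.lift_comp]
    show s.pt.toSpecΓ ≫ Spec.map ((Scheme.ΓSpecIso (CommRingCat.of B)).inv ≫ q₀.appTop) = q₀
    rw [Spec.map_comp, ← Scheme.toSpecΓ_naturality_assoc, toSpecΓ_SpecMap_ΓSpecIso_inv, Category.comp_id]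
  { lift := fun s => (key s).choose
    fac := fun s k => by
      rw [← cancel_mono (nbhd M k.unop).ι, Category.assoc, cone_app_ι, (key s).choose_spec,
        ← s.w (homOfLE (Finset.empty_subset k.unop)).op, Category.assoc]
      exact congrArg _ (diag_map_ι M _)
    uniq := fun s m hm => by
      haveI := mono_proj (B := B) M A
      refine (@cancel_mono _ _ _ _ _ (proj (B := B) A) (mono_proj M A) _ _).1 ?_
      rw [(key s).choose_spec, ← cone_app_ι M A (op ∅), ← Category.assoc, hm] }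

instance (k l : (Finset M)ᵒᵖ) (f : k ⟶ l) : IsAffineHom ((diag M).map f) :=
  haveI : IsAffine ((diag M).obj k) := isAffineOpen_nbhd M k.unop
  haveI : IsAffine ((diag M).obj l) := isAffineOpen_nbhd M l.unop
  isAffineHom_of_isAffine _

end SpreadLocLib

namespace SpreadLocLib

variable {B : Type u} [CommRing B] [IsNoetherianRing B] (M : Submonoid B) (A : Type u) [CommRing A] [Algebra B A]
  [IsLocalization M A] {S N : Scheme.{u}} (p : Spec (CommRingCat.of B) ⟶ S) (n : N ⟶ S)
  (W : (Spec (CommRingCat.of B)).Opens)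

instance (k : (Finset M)ᵒᵖ) (O : ((diag M).obj k).Opens) : CompactSpace (O : Scheme.{u}) :=
  haveI : NoetherianSpace (Spec (CommRingCat.of B)) := inferInstanceAs (NoetherianSpace (PrimeSpectrum B))
  haveI : NoetherianSpace ((diag M).obj k) := (nbhd M k.unop).ι.isOpenEmbedding.isInducing.noetherianSpace
  isCompact_iff_compactSpace.mp (TopologicalSpace.NoetherianSpace.isCompact (O : Set ((diag M).obj k)))

instance (k : (Finset M)ᵒᵖ) : QuasiSeparatedSpace ((diag M).obj k) :=
  haveI : IsAffine ((diag M).obj k) := isAffineOpen_nbhd M k.unop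
  inferInstance

/-- The diagram of traces of `W` on the neighbourhoods. -/
noncomputable abbrev wDiag : Over (op (∅ : Finset M)) ⥤ Scheme.{u} :=
  opensDiagram (diag M) (op ∅) ((nbhd M ∅).ι ⁻¹ᵁ W)

instance (j : Over (op (∅ : Finset M))) : CompactSpace ((wDiag M W).obj j) :=
  inferInstanceAs (CompactSpace (((diag M).map j.hom ⁻¹ᵁ ((nbhd M ∅).ι ⁻¹ᵁ W) : ((diag M).obj j.left).Opens) : Scheme.{u}))

instance (j : Over (op (∅ : Finset M))) : QuasiSeparatedSpace ((wDiag M W).obj j) :=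
  ((diag M).map j.hom ⁻¹ᵁ ((nbhd M ∅).ι ⁻¹ᵁ W)).ι.isOpenEmbedding.quasiSeparatedSpace

/-- The structure maps to the base. -/
noncomputable def wStr : wDiag M W ⟶ (Functor.const _).obj S where
  app j := Scheme.Opens.ι _ ≫ (nbhd M j.left.unop).ι ≫ p
  naturality j k f := by
    refine Eq.trans ?_ (Category.comp_id _).symm
    show ((diag M).map f.left).resLE _ _ _ ≫ Scheme.Opens.ι _ ≫ _ = _
    rw [Scheme.Hom.resLE_comp_ι_assoc, ← Category.assoc ((diag M).map f.left), diag_map_ι]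

theorem preimage_wDiag (j : Over (op (∅ : Finset M))) :
    (diag M).map j.hom ⁻¹ᵁ ((nbhd M ∅).ι ⁻¹ᵁ W) = (nbhd M j.left.unop).ι ⁻¹ᵁ W := by
  rw [← Scheme.Hom.comp_preimage]
  exact congrArg (fun t : _ ⟶ Spec (CommRingCat.of B) => t ⁻¹ᵁ W) (diag_map_ι M j.hom)

theorem cone_preimage : (cone M A).π.app (op ∅) ⁻¹ᵁ ((nbhd M ∅).ι ⁻¹ᵁ W) = proj A ⁻¹ᵁ W := by
  rw [← Scheme.Hom.comp_preimage, cone_app_ι]

/-- A morphism on the trace of `W` on the localization extends to a neighbourhood. -/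
theorem exists_hom [LocallyOfFinitePresentation n] (a : ((proj A ⁻¹ᵁ W : (Spec (CommRingCat.of A)).Opens) : Scheme.{u}) ⟶ N)
    (ha : a ≫ n = (proj A ⁻¹ᵁ W).ι ≫ proj A ≫ p) :
    ∃ (k : Finset M) (g : (((nbhd M k).ι ⁻¹ᵁ W : (nbhd M k : Scheme.{u}).Opens) : Scheme.{u}) ⟶ N),
      g ≫ n = Scheme.Opens.ι _ ≫ (nbhd M k).ι ≫ p ∧
      ((cone M A).π.app (op k)).resLE _ (proj A ⁻¹ᵁ W) (le_of_eq (by
        rw [← Scheme.Hom.comp_preimage, cone_app_ι])) ≫ g = a := by
  have e := cone_preimage M A W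
  let a' : (opensCone (diag M) (cone M A) (op ∅) ((nbhd M ∅).ι ⁻¹ᵁ W)).pt ⟶ N :=
    (Spec (CommRingCat.of A)).homOfLE e.le ≫ a
  obtain ⟨j, g, hg, hgS⟩ := Scheme.exists_π_app_comp_eq_of_locallyOfFinitePresentation (wDiag M W)
    (wStr M p W) n (opensCone (diag M) (cone M A) (op ∅) ((nbhd M ∅).ι ⁻¹ᵁ W))
    (isLimitOpensCone (diag M) (cone M A) (isLimit M A) (op ∅) _) a' (by
      ext j : 2
      show ((cone M A).π.app j.left).resLE _ _ _ ≫ Scheme.Opens.ι _ ≫ _ = a' ≫ n
      rw [Scheme.Hom.resLE_comp_ι_assoc, Category.assoc, ha, Scheme.homOfLE_ι_assoc]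
      exact congrArg (_ ≫ ·) (by rw [← Category.assoc, cone_app_ι]))
  refine ⟨j.left.unop, ((nbhd M j.left.unop) : Scheme.{u}).homOfLE (preimage_wDiag M W j).ge ≫ g, ?_, ?_⟩
  · rw [Category.assoc, hgS]
    exact Scheme.homOfLE_ι_assoc _ _ _
  · rw [Scheme.Hom.resLE_map_assoc]
    have h := congrArg ((Spec (CommRingCat.of A)).homOfLE e.ge ≫ ·) hg
    simp only [a', Scheme.homOfLE_homOfLE_assoc, Scheme.homOfLE_rfl, Category.id_comp] at h
    rw [← h]
    exact (Scheme.Hom.map_resLE_assoc _ _ _ _).symm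

/-- Morphisms on a neighbourhood which agree on the trace of `W` on the localization agree on that of a smaller one. -/
theorem exists_eq [LocallyOfFiniteType n] (k : Finset M)
    (g₁ g₂ : (((nbhd M k).ι ⁻¹ᵁ W : (nbhd M k : Scheme.{u}).Opens) : Scheme.{u}) ⟶ N)
    (h₁ : g₁ ≫ n = Scheme.Opens.ι _ ≫ (nbhd M k).ι ≫ p) (h₂ : g₂ ≫ n = Scheme.Opens.ι _ ≫ (nbhd M k).ι ≫ p)
    (he : ((cone M A).π.app (op k)).resLE _ (proj A ⁻¹ᵁ W) (le_of_eq (by
        rw [← Scheme.Hom.comp_preimage, cone_app_ι])) ≫ g₁ =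
      ((cone M A).π.app (op k)).resLE _ (proj A ⁻¹ᵁ W) (le_of_eq (by
        rw [← Scheme.Hom.comp_preimage, cone_app_ι])) ≫ g₂) :
    ∃ (l : Finset M) (h : k ⊆ l), ((diag M).map (homOfLE h).op).resLE _ ((nbhd M l).ι ⁻¹ᵁ W) (le_of_eq (by
        rw [← Scheme.Hom.comp_preimage, diag_map_ι])) ≫ g₁ =
      ((diag M).map (homOfLE h).op).resLE _ ((nbhd M l).ι ⁻¹ᵁ W) (le_of_eq (by
        rw [← Scheme.Hom.comp_preimage, diag_map_ι])) ≫ g₂ := by
  let j : Over (op (∅ : Finset M)) := Over.mk (homOfLE (Finset.empty_subset k)).op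
  let c := (nbhd M k : Scheme.{u}).homOfLE (preimage_wDiag M W j).le
  obtain ⟨l, hlj, h⟩ := Scheme.exists_hom_comp_eq_comp_of_locallyOfFiniteType (wDiag M W) (wStr M p W) n
    (opensCone (diag M) (cone M A) (op ∅) ((nbhd M ∅).ι ⁻¹ᵁ W))
    (isLimitOpensCone (diag M) (cone M A) (isLimit M A) (op ∅) _) (i := j) (c ≫ g₁) (c ≫ g₂)
    (by rw [Category.assoc, h₁]; exact (Scheme.homOfLE_ι_assoc _ _ _).symm)
    (by rw [Category.assoc, h₂]; exact (Scheme.homOfLE_ι_assoc _ _ _).symm) (by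
      have h := congrArg ((Spec (CommRingCat.of A)).homOfLE (cone_preimage M A W).le ≫ ·) he
      simp only [Scheme.Hom.map_resLE_assoc] at h
      show ((cone M A).π.app j.left).resLE _ _ _ ≫ c ≫ g₁ = ((cone M A).π.app j.left).resLE _ _ _ ≫ c ≫ g₂
      exact ((Scheme.Hom.resLE_map_assoc ((cone M A).π.app j.left) _ _ _).trans h).trans
        (Scheme.Hom.resLE_map_assoc ((cone M A).π.app j.left) _ _ _).symm)
  refine ⟨l.left.unop, leOfHom hlj.left.unop, ?_⟩
  have h' := congrArg ((nbhd M l.left.unop : Scheme.{u}).homOfLE (preimage_wDiag M W l).ge ≫ ·) h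
  have hm : ∀ g : (((nbhd M k).ι ⁻¹ᵁ W : (nbhd M k : Scheme.{u}).Opens) : Scheme.{u}) ⟶ N, (nbhd M l.left.unop : Scheme.{u}).homOfLE (preimage_wDiag M W l).ge ≫ (wDiag M W).map hlj ≫ c ≫ g =
      ((diag M).map hlj.left).resLE _ ((nbhd M l.left.unop).ι ⁻¹ᵁ W) (le_of_eq (by
        rw [← Scheme.Hom.comp_preimage]
        exact congrArg (fun t : _ ⟶ Spec (CommRingCat.of B) => t ⁻¹ᵁ W) (diag_map_ι M hlj.left).symm)) ≫ g := fun g => by
    show (nbhd M l.left.unop : Scheme.{u}).homOfLE _ ≫ ((diag M).map hlj.left).resLE _ _ _ ≫ c ≫ g = _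
    exact (congrArg _ (Scheme.Hom.resLE_map_assoc ((diag M).map hlj.left) _ _ _)).trans
      (Scheme.Hom.map_resLE_assoc ((diag M).map hlj.left) _ _ _)
  exact (hm g₁).symm.trans (h'.trans (hm g₂))

end SpreadLocLib
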